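import Cfsg.Agent.Shaw.Cover

/-!
Suzuki 2-groups with a solvable transitive automorphism group, III: all squares are central, and the order is `q²` or `q³`.
-/

set_option autoImplicit false

namespace Cfsg.Lib.Shaw

open Cfsg.Lib.Suz

universe u

/-- Chevalley-Warning bound for anisotropic quadratic maps over the field with two elements. -/
theorem card_le_sq_of_anisotropic {V W : Type*} [AddCommGroup V] [AddCommGroup W]
    [Module (ZMod 2) V] [Module (ZMod 2) W] [Finite V] [Finite W] (B : V →+ V →+ W)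
    (h : ∀ v, B v v = 0 → v = 0) : Nat.card V ≤ Nat.card W ^ 2 := by
  classical
  have := Fact.mk Nat.prime_two
  let bV := Module.finBasis (ZMod 2) V
  let bW := Module.finBasis (ZMod 2) W
  let f : Fin (Module.finrank (ZMod 2) W) → MvPolynomial (Fin (Module.finrank (ZMod 2) V)) (ZMod 2) :=
    fun j => ∑ i, ∑ k, MvPolynomial.C (bW.repr (B (bV i) (bV k)) j) *
      (MvPolynomial.X i * MvPolynomial.X k)
  have hdeg : ∀ j, (f j).totalDegree ≤ 2 := fun j =>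
    MvPolynomial.totalDegree_finsetSum_le fun i _ => MvPolynomial.totalDegree_finsetSum_le fun k _ =>
      (MvPolynomial.totalDegree_mul _ _).trans (by
        rw [MvPolynomial.totalDegree_C, zero_add]
        refine (MvPolynomial.totalDegree_mul _ _).trans ?_
        rw [MvPolynomial.totalDegree_X, MvPolynomial.totalDegree_X])
  have heval : ∀ x j, MvPolynomial.eval x (f j) =
      bW.repr (B (∑ i, x i • bV i) (∑ i, x i • bV i)) j := fun x j => by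
    simp only [f, map_sum, map_mul, MvPolynomial.eval_C, MvPolynomial.eval_X,
      AddMonoidHom.finsetSum_apply, ZMod.map_smul, AddMonoidHom.smul_apply, Finsupp.finsetSum_apply,
      Finsupp.smul_apply, smul_eq_mul]
    rw [Finset.sum_comm]
    refine Finset.sum_congr rfl fun i _ => ?_
    rw [Finset.mul_sum]
    exact Finset.sum_congr rfl fun k _ => by ring
  rw [Module.natCard_eq_pow_finrank (K := ZMod 2) (V := V),
    Module.natCard_eq_pow_finrank (K := ZMod 2) (V := W), Nat.card_zmod, ← pow_mul]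
  refine Nat.pow_le_pow_right two_pos (not_lt.1 fun hlt => ?_)
  have h1 := char_dvd_card_solutions_of_fintype_sum_lt (K := ZMod 2) 2 (f := f) (by
    refine lt_of_le_of_lt (Finset.sum_le_sum fun j _ => hdeg j) ?_
    simpa using hlt)
  have h2 : Nat.card {x // ∀ j, MvPolynomial.eval x (f j) = 0} = 1 := by
    refine Nat.card_eq_one_iff_exists.2 ⟨⟨0, fun j => by rw [heval]; simp⟩, fun x => Subtype.ext ?_⟩
    have h3 := h (∑ i, x.1 i • bV i) (bW.repr.injective (Finsupp.ext fun j => by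
      rw [← heval, x.2 j]; simp))
    exact funext (Fintype.linearIndependent_iff.1 bV.linearIndependent _ h3)
  have h4 : 2 ∣ Nat.card {x // ∀ j, MvPolynomial.eval x (f j) = 0} := by
    rw [Nat.card_eq_fintype_card]; convert h1
  omega

variable {G : Type u} [Group G] {ξ : MulAut G} {P Z M N : Subgroup G} {F : Type*} [Field F]

theorem cm_mem_of_sq (hsq : ∀ x ∈ M, x * x ∈ N) {x y : G} (hx : x ∈ M) (hy : y ∈ M) :
    cm x y ∈ N := by
  have : cm x y = x⁻¹ * x⁻¹ * (x * y⁻¹ * (x * y⁻¹)) * (y * y) := by simp only [cm]; group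
  rw [this]
  exact N.mul_mem (N.mul_mem (hsq _ (M.inv_mem hx)) (hsq _ (M.mul_mem hx (M.inv_mem hy))))
    (hsq _ hy)

theorem H0.cm_left (h : H0 ξ P Z) (zc : Co ξ Z ⊥ F) {u u' v : G} (hu' : u' ∈ P) (h1 : cm u v ∈ Z)
    (h2 : cm u' v ∈ Z) : zc.f (cm (u * u') v) = zc.f (cm u v) + zc.f (cm u' v) := by
  rw [cm_mul_left, h.Z_conj h1 hu', zc.add _ h1 _ h2]

theorem H0.cm_right (h : H0 ξ P Z) (zc : Co ξ Z ⊥ F) {u v v' : G} (hv' : v' ∈ P) (h1 : cm u v ∈ Z)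
    (h2 : cm u v' ∈ Z) : zc.f (cm u (v * v')) = zc.f (cm u v) + zc.f (cm u v') := by
  rw [cm_mul_right, h.Z_conj h1 hv', zc.add _ h2 _ h1, add_comm]

theorem H0.cm_sq (h : H0 ξ P Z) {x u : G} (hu : u ∈ P) (h1 : cm x u ∈ Z) :
    x * (u * u) = u * u * x := by
  rw [← cm_eq_one, cm_mul_right, h.Z_conj h1 hu, h.Z_sq h1]

theorem H0.cm_inv (h : H0 ξ P Z) {x u : G} (hu : u ∈ P) (h1 : cm x u ∈ Z) : cm x u⁻¹ = cm x u := by
  have h2 : cm x u⁻¹ = u⁻¹⁻¹ * (cm x u)⁻¹ * u⁻¹ := by simp only [cm]; group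
  rw [h2, h.Z_conj (Z.inv_mem h1) (P.inv_mem hu), inv_eq_of_mul_eq_one_right (h.Z_sq h1)]

theorem H0.sq_mul (h : H0 ξ P Z) (zc : Co ξ Z ⊥ F) {x y : G} (hy : y ∈ P) (h1 : x * x ∈ Z)
    (h2 : y * y ∈ Z) (h3 : cm x y ∈ Z) :
    zc.f (x * y * (x * y)) = zc.f (x * x) + zc.f (y * y) + zc.f (cm x y) := by
  rw [mul_sq_eq, h.cm_inv hy h3, zc.add _ (Z.mul_mem h1 h3) _ h2, zc.add _ h1 _ h3, add_right_comm]

theorem surj_pow_of_inv [Finite G] (hi : ∀ x ∈ M, ξ x ∈ M) {x : G} (hx : x ∈ M) :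
    ∃ y ∈ M, ξ y = x := by
  let φ : M → M := fun y => ⟨ξ y, hi y y.2⟩
  obtain ⟨y, hy⟩ := (Finite.injective_iff_surjective (f := φ)).1
    (fun y y' e => Subtype.ext (ξ.injective (congrArg Subtype.val e))) ⟨x, hx⟩
  exact ⟨y, y.2, congrArg Subtype.val hy⟩

/-- The centre of a non-abelian group of exponent four with irreducible `Z` is `Z`. -/
theorem H0.center (h : H0 ξ M Z) (hsq : ∀ x ∈ M, x * x ∈ Z)
    (hM : ¬ ∀ u ∈ M, ∀ v ∈ M, u * v = v * u) [Finite G] {c : G} (hc : c ∈ M)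
    (hc' : ∀ x ∈ M, c * x = x * c) : c ∈ Z := by
  by_contra hcZ
  have hc2 : c * c ≠ 1 := fun e => hcZ ((h.mem_Z c).2 ⟨hc, e⟩)
  let L : Subgroup G :=
    { carrier := {z | ∃ d ∈ M, (∀ x ∈ M, d * x = x * d) ∧ d * d = z}
      one_mem' := ⟨1, M.one_mem, fun x _ => by rw [one_mul, mul_one], mul_one 1⟩
      mul_mem' := by
        rintro _ _ ⟨d, hd, hd', rfl⟩ ⟨e, he, he', rfl⟩
        refine ⟨d * e, M.mul_mem hd he, fun x hx => ?_, ?_⟩
        · rw [mul_assoc, he' x hx, ← mul_assoc, hd' x hx, mul_assoc]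
        · rw [mul_assoc, ← mul_assoc e, ← hd' e he]; group
      inv_mem' := by
        rintro _ ⟨d, hd, hd', rfl⟩
        exact ⟨d⁻¹, M.inv_mem hd, fun x hx => (Commute.inv_left (hd' x hx) :), (mul_inv_rev d d).symm⟩ }
  have hZL : Z ≤ L := h.irr L (by
    rintro _ ⟨d, hd, hd', rfl⟩ -
    refine ⟨ξ d, h.inv d hd, fun x hx => ?_, (map_mul ξ d d).symm⟩
    obtain ⟨y, hy, rfl⟩ := surj_pow_of_inv h.inv hx
    rw [← map_mul, ← map_mul, hd' y hy]) _ ⟨c, hc, hc', rfl⟩ (hsq c hc) hc2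
  refine hM fun u hu v hv => ?_
  obtain ⟨d, hd, key', hk⟩ := hZL (hsq u hu)
  have h1 : u * d⁻¹ ∈ Z := (h.mem_Z _).2 ⟨M.mul_mem hu (M.inv_mem hd), by
    rw [← pow_two, (Commute.inv_right (Commute.symm (key' u hu))).mul_pow, pow_two, ← hk, pow_two]
    group⟩
  calc u * v = u * d⁻¹ * (d * v) := by group
    _ = u * d⁻¹ * v * d := by rw [key' v hv]; group
    _ = _ := by rw [h.central _ h1 v hv]; group

variable [Finite G] [Finite F] [CharP F 2]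

theorem H0.card_le (h : H0 ξ M Z) (hF : Nat.card F = Nat.card Z) (zc : Co ξ Z ⊥ F)
    (hsq : ∀ x ∈ M, x * x ∈ Z) : Nat.card M ≤ Nat.card Z ^ 3 := by
  obtain ⟨A, _, _, ⟨S⟩⟩ := exists_sec_sq h.Z_le hsq
  have := S.finite
  let _ : Module (ZMod 2) F := AddCommGroup.zmodModule fun x => by
    rw [two_nsmul, CharTwo.add_self_eq_zero]
  choose s hs hs' using S.π_surj
  have hq : ∀ x ∈ M, zc.f (s (S.π x) * s (S.π x)) = zc.f (x * x) := fun x hx => by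
    obtain ⟨n, hn, e⟩ := (S.π_eq_iff' hx (hs (S.π x))).1 (hs' _).symm
    rw [e, h.sq_mul zc (h.Z_le hn) (hsq x hx) (Z.mul_mem hn hn) (cm_mem_of_sq hsq hx (h.Z_le hn)),
      h.Z_sq hn, cm_eq_one.2 (h.central n hn x hx).symm, zc.f_one, add_zero, add_zero]
  obtain ⟨B, hB⟩ := Cfsg.Lib.Chev.FieldAut.exists_biadditive_of_quadratic (fun b => zc.f (s b * s b)) fun p q r => by
    obtain ⟨x, hx, rfl⟩ := S.π_surj p
    obtain ⟨y, hy, rfl⟩ := S.π_surj q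
    obtain ⟨z, hz, rfl⟩ := S.π_surj r
    have hxy := M.mul_mem hx hy
    simp only [← S.π_mul x hx y hy, ← S.π_mul _ hxy z hz, ← S.π_mul x hx z hz, ← S.π_mul y hy z hz,
      hq _ hxy, hq _ (M.mul_mem hxy hz), hq _ (M.mul_mem hx hz), hq _ (M.mul_mem hy hz), hq x hx,
      hq y hy, hq z hz]
    rw [h.sq_mul zc hz (hsq _ hxy) (hsq z hz) (cm_mem_of_sq hsq hxy hz),
      h.sq_mul zc hz (hsq _ hx) (hsq z hz) (cm_mem_of_sq hsq hx hz),
      h.sq_mul zc hz (hsq _ hy) (hsq z hz) (cm_mem_of_sq hsq hy hz),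
      h.cm_left zc hy (cm_mem_of_sq hsq hx hz) (cm_mem_of_sq hsq hy hz)]
    linear_combination (exp := 1) (zc.f (x * y * (x * y)) + 2 * zc.f (z * z) + zc.f (cm x z) +
      zc.f (cm y z) + zc.f (x * x) + zc.f (y * y)) * (CharTwo.two_eq_zero (R := F))
  have h1 := card_le_sq_of_anisotropic B fun b hb => by
    rw [← hB] at hb
    rw [← hs' b]
    exact S.π_of_mem ((h.mem_Z _).2 ⟨hs b, zc.eq_one (hsq _ (hs b)) hb⟩)
  rw [S.card, pow_succ, ← hF]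
  exact Nat.mul_le_mul_right _ h1

omit [Finite G] in
/-- The commutator map `N × M → Z` when `|M| = q³` and `N` is abelian of order `q²`. -/
theorem HS.beta (h : HS ξ M Z) (hF : Nat.card F = Nat.card Z) (zc : Co ξ Z ⊥ F)
    (hsq : ∀ x ∈ M, x * x ∈ Z) (c : Co ξ M N F) (cN : Co ξ N Z F) (ha : cN.a = zc.a)
    (hN : ∀ x ∈ N, ∀ y ∈ N, x * y = y * x) :
    ∃ B : F →+ F →+ F, (∀ n ∈ N, ∀ x ∈ M, B (cN.f n) (c.f x) = zc.f (cm n x)) ∧
      (∀ n n' x, n ≠ 0 → n' ≠ 0 → B n x = n → B n' x = n' → n = n') ∧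
      ∀ n x x', n ≠ 0 → B n x ≠ 0 → B n x' = 0 → x' = 0 := by
  have hcm : ∀ x ∈ M, ∀ y ∈ M, cm x y ∈ Z := fun x hx y hy => cm_mem_of_sq hsq hx hy
  obtain ⟨B, hB⟩ := cN.lift₂ c (fun n x => zc.f (cm n x))
    (fun n hn n' hn' x hx => h.cm_left zc (c.le hn') (hcm n (c.le hn) x hx) (hcm n' (c.le hn') x hx))
    (fun n hn x hx x' hx' => h.cm_right zc hx' (hcm n (c.le hn) x hx) (hcm n (c.le hn) x' hx'))
    (fun z hz x hx => by rw [cm_eq_one.2 (h.central z hz x hx), zc.f_one])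
    (fun n hn n' hn' => by rw [cm_eq_one.2 (hN n hn n' hn'), zc.f_one])
  obtain ⟨X, c', -, hc'⟩ := h.exists_co_extend hF cN le_rfl h.inv c.le hsq
  let cX := c.restrict c' cN hc'
  have hX : X ≤ M := c'.le
  obtain ⟨C, hC⟩ := cX.lift₂ cX (fun x y => zc.f (cm x y))
    (fun x hx x' hx' y hy => h.cm_left zc (hX hx') (hcm x (hX hx) y (hX hy)) (hcm x' (hX hx') y (hX hy)))
    (fun x hx y hy y' hy' => h.cm_right zc (hX hy') (hcm x (hX hx) y (hX hy)) (hcm x (hX hx) y' (hX hy')))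
    (fun z hz x hx => by rw [cm_eq_one.2 (h.central z hz x (hX hx)), zc.f_one])
    (fun x hx z hz => by rw [cm_eq_one.2 (h.central z hz x (hX hx)).symm, zc.f_one])
  obtain ⟨S, hS⟩ := cX.lift_fun (fun x => zc.f (x * x)) fun x hx z hz => by
    rw [h.sq_mul zc (h.Z_le hz) (hsq x (hX hx)) (Z.mul_mem hz hz) (hcm x (hX hx) z (h.Z_le hz)),
      h.Z_sq hz, cm_eq_one.2 (h.central z hz x (hX hx)).symm, zc.f_one, add_zero, add_zero]
  obtain ⟨x₀, hx₀, hx₀'⟩ := SetLike.not_le_iff_exists.1 cX.not_le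
  obtain ⟨σ, τ, hl⟩ := quad_eq (a := cX.a) (l := zc.a) S C (fun p q => by
      obtain ⟨u, hu, rfl⟩ := cX.surj p
      obtain ⟨v, hv, rfl⟩ := cX.surj q
      rw [← cX.add u hu v hv, hS _ (X.mul_mem hu hv), hS u hu, hS v hv, hC u hu v hv,
        h.sq_mul zc (hX hv) (hsq u (hX hu)) (hsq v (hX hv)) (hcm u (hX hu) v (hX hv))])
    (fun p => by
      obtain ⟨u, hu, rfl⟩ := cX.surj p
      rw [← cX.equi u hu, hS _ (cX.inv u hu), hS u hu, ← map_mul, zc.equi _ (hsq u (hX hu))])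
    ⟨cX.f x₀, by
      rw [hS x₀ hx₀]
      exact fun e => hx₀' ((h.mem_Z _).2 ⟨hX hx₀, zc.eq_one (hsq _ (hX hx₀)) e⟩)⟩
  have hl' : σ c.a * τ c.a = zc.a := hl.symm
  refine ⟨B, hB, beta_mono (h.exists_ne hF) c.prim.good (σ := σ) (τ := τ) (hl' ▸ zc.prim.good) B
    fun p q => ?_⟩
  obtain ⟨n, hn, rfl⟩ := cN.surj p
  obtain ⟨x, hx, rfl⟩ := c.surj q
  rw [hl', ← c.equi x hx, ← ha, ← cN.equi n hn, hB _ (cN.inv n hn) _ (c.inv x hx), hB n hn x hx,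
    ← map_cm, zc.equi _ (hcm n (c.le hn) x hx), ha]

omit [Finite F] [CharP F 2] in
theorem exists_sq_closure (hP : IsPGroup 2 P) (hne : P ≠ ⊥) :
    ¬ P ≤ Subgroup.closure {y | ∃ x ∈ P, x * x = y} := by
  have := Fact.mk Nat.prime_two
  obtain ⟨n, hn⟩ := IsPGroup.iff_card.1 hP
  rcases n with _ | n
  · exact absurd (Subgroup.card_eq_one.1 hn) hne
  obtain ⟨H, hH⟩ := Sylow.exists_subgroup_card_pow_prime (G := P) 2 (n := n)
    (hn ▸ pow_dvd_pow 2 n.le_succ)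
  have h2 : H.index = 2 := by
    have := H.card_mul_index
    rw [hH, hn, pow_succ] at this
    exact Nat.eq_of_mul_eq_mul_left (by positivity) this
  intro hle
  have h3 : Subgroup.closure {y | ∃ x ∈ P, x * x = y} ≤ H.map P.subtype :=
    (Subgroup.closure_le _).2 (by
      rintro _ ⟨x, hx, rfl⟩
      exact ⟨_, H.mul_self_mem_of_index_two h2 ⟨x, hx⟩, rfl⟩)
  have h4 : H = ⊤ := eq_top_iff.2 fun x _ => by
    obtain ⟨y, hy, e⟩ := h3 (hle x.2)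
    exact (Subtype.ext e : y = x) ▸ hy
  rw [h4, Subgroup.index_top] at h2
  omega

omit [Finite F] [CharP F 2] in
theorem Co.card_lt (c : Co ξ M N F) : Nat.card N < Nat.card M :=
  lt_of_le_of_ne (Subgroup.card_le_of_le c.le) fun e =>
    c.not_le (Subgroup.eq_of_le_of_card_ge c.le e.ge).ge

/-- The elements of `M` whose commutators with `P` lie in `N`. -/
def cmSub (P M N : Subgroup G) (hn : ∀ x ∈ N, ∀ g ∈ M, g⁻¹ * x * g ∈ N) : Subgroup G where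
  carrier := {x | x ∈ M ∧ ∀ g ∈ P, cm x g ∈ N}
  one_mem' := ⟨M.one_mem, fun g _ => by rw [cm_eq_one.2 (by simp)]; exact N.one_mem⟩
  mul_mem' := fun {x y} hx hy => ⟨M.mul_mem hx.1 hy.1, fun g hg => by
    rw [cm_mul_left]; exact N.mul_mem (hn _ (hx.2 g hg) y hy.1) (hy.2 g hg)⟩
  inv_mem' := fun {x} hx => ⟨M.inv_mem hx.1, fun g hg => by
    have : cm x⁻¹ g = x⁻¹⁻¹ * (cm x g)⁻¹ * x⁻¹ := by simp only [cm]; group
    rw [this]; exact hn _ (N.inv_mem (hx.2 g hg)) _ (M.inv_mem hx.1)⟩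

omit [Finite F] [CharP F 2] in
theorem cmSub_inv (hn : ∀ x ∈ N, ∀ g ∈ M, g⁻¹ * x * g ∈ N) (hP : ∀ x ∈ P, ξ x ∈ P)
    (hM : ∀ x ∈ M, ξ x ∈ M) (hN : ∀ x ∈ N, ξ x ∈ N) : ∀ x ∈ cmSub P M N hn, ξ x ∈ cmSub P M N hn :=
  fun x hx => ⟨hM x hx.1, fun g hg => by
    obtain ⟨g', hg', rfl⟩ := surj_pow_of_inv hP hg
    rw [← map_cm]; exact hN _ (hx.2 g' hg')⟩

theorem HS.step (h : HS ξ P Z) (hF : Nat.card F = Nat.card Z)
    (hP : ¬ ∀ u ∈ P, ∀ v ∈ P, u * v = v * u)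
    (ih : ∀ M : Subgroup G, Nat.card M < Nat.card P → HS ξ M Z →
      (¬ ∀ u ∈ M, ∀ v ∈ M, u * v = v * u) → ∀ u ∈ M, u * u ∈ Z) : ∀ u ∈ P, u * u ∈ Z := by
  obtain ⟨zc⟩ := h.exists_co_Z hF
  obtain ⟨t₀, ht₀, ht₁⟩ := h.exists_ne hF
  have hq : 0 < Nat.card Z := Nat.card_pos
  -- a maximal invariant subgroup `M`
  let Φ := Subgroup.closure {y | ∃ x ∈ P, x * x = y}
  have hΦP : Φ ≤ P := (Subgroup.closure_le _).2 (by rintro _ ⟨x, hx, rfl⟩; exact P.mul_mem hx hx)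
  have hΦi : ∀ x ∈ Φ, ξ x ∈ Φ := fun x hx => by
    induction hx using Subgroup.closure_induction with
    | mem x hx =>
      obtain ⟨y, hy, rfl⟩ := hx
      exact Subgroup.subset_closure ⟨ξ y, h.inv y hy, (map_mul ξ y y).symm⟩
    | one => rw [map_one]; exact Φ.one_mem
    | mul x y _ _ h1 h2 => rw [map_mul]; exact Φ.mul_mem h1 h2
    | inv x _ h1 => rw [map_inv]; exact Φ.inv_mem h1
  by_contra! hu₀
  obtain ⟨u₀, hu₀, hu₀'⟩ := hu₀
  have hZΦ : Z ≤ Φ := h.Z_le_of_ne hΦP hΦi (Subgroup.subset_closure ⟨u₀, hu₀, rfl⟩)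
    fun e => hu₀' (e ▸ Z.one_mem)
  obtain ⟨M, hΦM, ⟨c⟩⟩ := h.exists_co hF le_rfl h.inv hΦP hΦi
    (fun x hx => Subgroup.subset_closure ⟨x, hx, rfl⟩) (exists_sq_closure h.two (by
      rintro rfl
      exact hu₀' (by rw [Subgroup.mem_bot.1 hu₀, mul_one]; exact Z.one_mem)))
  have main : ∀ {M : Subgroup G}, Z ≤ M → Co ξ P M F →
      (¬ ∀ u ∈ M, ∀ v ∈ M, u * v = v * u) ∧ ∀ u ∈ M, u * u ∈ Z := fun {M} hZ c => by
    have h1 : ¬ ∀ u ∈ M, ∀ v ∈ M, u * v = v * u := fun hA => hu₀' (h.cover hF c hZ hA hP u₀ hu₀)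
    exact ⟨h1, ih M c.card_lt (h.mono hZ c.le c.inv_N) h1⟩
  have hZM := hZΦ.trans hΦM
  obtain ⟨hMn, hMsq⟩ := main hZM c
  have hM := h.mono hZM c.le c.inv_N
  have hZn : ∀ x ∈ Z, ∀ g ∈ P, g⁻¹ * x * g ∈ Z := fun x hx g hg => (h.Z_conj hx hg).symm ▸ hx
  have hMn' : ∀ x ∈ M, ∀ g ∈ P, g⁻¹ * x * g ∈ M := fun x hx g hg => c.conj_mem hg hx
  -- `N / Z = C_{M/Z}(P)`
  let N := cmSub P M Z fun x hx g hg => hZn x hx g (c.le hg)
  have hNi : ∀ x ∈ N, ξ x ∈ N := cmSub_inv _ h.inv c.inv_N h.Z_inv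
  have hNM : N ≤ M := fun x hx => hx.1
  have hZN : Z ≤ N := fun z hz => ⟨hZM hz, fun g hg => by
    rw [cm_eq_one.2 (h.central z hz g hg)]; exact Z.one_mem⟩
  have hMN : ¬ M ≤ N := fun hle => hu₀' (hM.center hMsq hMn (c.sq_mem hu₀) fun x hx =>
    (h.cm_sq hu₀ ((hle hx).2 u₀ hu₀)).symm)
  have hNZ : ¬ N ≤ Z := by
    obtain ⟨x, hx, hxZ, hx'⟩ := exists_comm_mem (N := Z) h.two c.le hMn'
      fun hle => hMn fun u hu v hv => hM.central u (hle hu) v hv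
    exact fun hle => hxZ (hle ⟨hx, hx'⟩)
  obtain ⟨N', hNN', ⟨c₁⟩⟩ := h.exists_co hF c.le c.inv_N hNM hNi (fun x hx => hZN (hMsq x hx)) hMN
  obtain ⟨Z', hZZ', ⟨c₂⟩⟩ := h.exists_co hF (hNM.trans c.le) hNi hZN h.Z_inv
    (fun x hx => hMsq x (hNM hx)) hNZ
  have hcard := hM.card_le hF zc hMsq
  have e1 := c₁.card
  have e2 := c₂.card
  have l1 := Subgroup.card_le_of_le hNN'
  have l2 := Subgroup.card_le_of_le hZZ'
  rw [hF] at e1 e2
  have l3 : Nat.card N' ≤ Nat.card Z * Nat.card Z :=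
    Nat.le_of_mul_le_mul_left (by rw [← e1]; exact hcard.trans (le_of_eq (by ring))) hq
  obtain rfl : Z = Z' := Subgroup.eq_of_le_of_card_ge hZZ'
    (Nat.le_of_mul_le_mul_left (e2 ▸ l1.trans l3) hq)
  obtain rfl : N = N' := Subgroup.eq_of_le_of_card_ge hNN' (e2 ▸ l3)
  -- `[M, P] ≤ N`
  have hNn : ∀ x ∈ N, ∀ g ∈ P, g⁻¹ * x * g ∈ N := fun x hx g hg => by
    rw [conj_eq_mul_cm]; exact N.mul_mem hx (hZN (hx.2 g hg))
  have hMP : ∀ x ∈ M, ∀ g ∈ P, cm x g ∈ N := by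
    obtain ⟨x, hx, hxN, hx'⟩ := exists_comm_mem (N := N) h.two c.le hMn' hMN
    have := c₁.le_of_not_le (L := cmSub P M N fun x hx g hg => hNn x hx g (c.le hg))
      (fun n hn => ⟨hNM hn, fun g hg => hZN (hn.2 g hg)⟩)
      (fun y hy _ => cmSub_inv _ h.inv c.inv_N hNi y hy) ⟨hx, hx'⟩ hx hxN
    exact fun y hy => (this hy).2
  obtain ⟨x₀, hx₀, hx₀'⟩ := SetLike.not_le_iff_exists.1 hMN
  obtain ⟨g₀, hg₀, hg₀'⟩ : ∃ g ∈ P, cm x₀ g ∉ Z := by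
    by_contra! h0
    exact hx₀' ⟨hx₀, h0⟩
  -- `N` is abelian
  have hbot : ∀ {M : Subgroup G}, ∀ x ∈ (⊥ : Subgroup G), ∀ g ∈ M, g⁻¹ * x * g ∈ (⊥ : Subgroup G) :=
    fun x hx g _ => by rw [Subgroup.mem_bot.1 hx]; simp
  have hboti : ∀ x ∈ (⊥ : Subgroup G), ξ x ∈ (⊥ : Subgroup G) := fun x hx => by
    rw [Subgroup.mem_bot.1 hx]; simp
  have hNab : ∀ x ∈ N, ∀ y ∈ N, x * y = y * x := by
    have := c₂.le_of_not_le (L := cmSub N N ⊥ hbot)
      (fun z hz => ⟨hZN hz, fun g hg => Subgroup.mem_bot.2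
        (cm_eq_one.2 (h.central z hz g (c.le (hNM hg))))⟩)
      (fun y hy _ => cmSub_inv _ hNi hNi hboti y hy) (x := cm x₀ g₀)
      ⟨hMP x₀ hx₀ g₀ hg₀, fun n hn => Subgroup.mem_bot.2 ?_⟩ (hMP x₀ hx₀ g₀ hg₀) hg₀'
    · exact fun x hx y hy => cm_eq_one.1 (Subgroup.mem_bot.1 ((this hx).2 y hy))
    · have hnP := c.le (hNM hn)
      have hxP := c.le hx₀
      have hm := hMP x₀ hx₀ g₀ hg₀
      have h1 : cm n x₀ ∈ Z := hn.2 x₀ hxP
      have h2 : g₀⁻¹ * cm n x₀ * g₀ = cm (n * cm n g₀) (x₀ * cm x₀ g₀) := by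
        rw [← conj_eq_mul_cm, ← conj_eq_mul_cm]; simp only [cm]; group
      have h3 : cm (n * cm n g₀) (x₀ * cm x₀ g₀) = cm n (x₀ * cm x₀ g₀) := by
        have h4 := P.mul_mem hxP (c.le (hNM hm))
        rw [cm_mul_left, h.Z_conj (hn.2 _ h4) (h.Z_le (hn.2 g₀ hg₀)),
          cm_eq_one.2 (h.central _ (hn.2 g₀ hg₀) _ h4), mul_one]
      rw [h.Z_conj h1 hg₀, h3, cm_mul_right, h.Z_conj h1 (c.le (hNM hm)), right_eq_mul] at h2
      rw [cm_symm, h2, inv_one]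
  -- squares of `P` lie in `N`
  have hPsq : ∀ u ∈ P, u * u ∈ N := fun u hu => by
    by_contra hne
    have := c₁.le_of_not_le (L := cmSub N M ⊥ hbot)
      (fun n hn => ⟨hNM hn, fun g hg => Subgroup.mem_bot.2 (cm_eq_one.2 (hNab n hn g hg))⟩)
      (fun y hy _ => cmSub_inv _ hNi c.inv_N hboti y hy) (x := u * u)
      ⟨c.sq_mem hu, fun n hn => Subgroup.mem_bot.2 (cm_eq_one.2 (h.cm_sq hu (hn.2 u hu)).symm)⟩
      (c.sq_mem hu) hne
    exact hNZ fun n hn => hM.center hMsq hMn (hNM hn) fun x hx =>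
      (cm_eq_one.1 (Subgroup.mem_bot.1 ((this hx).2 n hn))).symm
  -- the complement `M'`
  obtain ⟨M', c', -, hc'⟩ := h.exists_co_extend hF c₁ le_rfl h.inv c.le hPsq
  let c₁' := c.restrict c' c₁ hc'
  have hZM' := hZN.trans c₁'.le
  obtain ⟨-, hMsq'⟩ := main hZM' c'
  have hM' := h.mono hZM' c'.le c'.inv_N
  -- the coordinate on `N / Z` given by squaring
  have hNsq : ∀ n ∈ N, n * n ∈ Z := fun n hn => hMsq n (hNM hn)
  have hadd : ∀ x ∈ N, ∀ y ∈ N, zc.f (x * y * (x * y)) = zc.f (x * x) + zc.f (y * y) :=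
    fun x hx y hy => by
      rw [h.sq_mul zc (c.le (hNM hy)) (hNsq x hx) (hNsq y hy) (hx.2 y (c.le (hNM hy))),
        cm_eq_one.2 (hNab x hx y hy), zc.f_one, add_zero]
  have hequi : ∀ x ∈ N, zc.f (ξ x * ξ x) = zc.a * zc.f (x * x) := fun x hx => by
    rw [← map_mul, zc.equi _ (hNsq x hx)]
  have hker : ∀ x ∈ N, zc.f (x * x) = 0 ↔ x ∈ Z := fun x hx =>
    ⟨fun e => (h.mem_Z x).2 ⟨c.le (hNM hx), zc.eq_one (hNsq x hx) e⟩,
      fun hz => by rw [h.Z_sq hz, zc.f_one]⟩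
  let cN : Co ξ N Z F := ⟨fun x => zc.f (x * x), zc.a, zc.prim, hZN, hNi, hadd, hequi,
    surj_of_equi (g := fun x => zc.f (x * x)) zc.prim hNi hadd hequi (hMP x₀ hx₀ g₀ hg₀)
      fun e => hg₀' ((hker _ (hMP x₀ hx₀ g₀ hg₀)).1 e), hker⟩
  obtain ⟨B, hB, hB1, -⟩ := hM.beta hF zc hMsq c₁ cN rfl hNab
  obtain ⟨B', hB', -, hB2⟩ := hM'.beta hF zc hMsq' c₁' cN rfl hNab
  have hsqc : ∀ x ∈ P, ∀ g ∈ P, x * x ∈ Z → cm x g ∈ N →
      zc.f (cm (cm x g) x) = cN.f (cm x g) := fun x hx g hg hx2 hn => by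
    have h1 : x * cm x g * (x * cm x g) = x * x := by
      rw [← conj_eq_mul_cm]
      calc g⁻¹ * x * g * (g⁻¹ * x * g) = g⁻¹ * (x * x) * g := by group
        _ = _ := h.Z_conj hx2 hg
    have h3 := hn.2 x hx
    have h4 : cm x (cm x g) ∈ Z := by rw [cm_symm]; exact Z.inv_mem h3
    have h2 := h.sq_mul zc (c.le (hNM hn)) hx2 (hNsq _ hn) h4
    rw [h1, add_assoc, left_eq_add, CharTwo.add_eq_zero] at h2
    rw [cm_symm, zc.f_inv h4, ← h2]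
  have hE1 : ∀ y ∈ M', B (cN.f (cm x₀ y)) (c₁.f x₀) = cN.f (cm x₀ y) := fun y hy => by
    rw [hB _ (hMP x₀ hx₀ y (c'.le hy)) x₀ hx₀,
      hsqc x₀ (c.le hx₀) y (c'.le hy) (hMsq x₀ hx₀) (hMP x₀ hx₀ y (c'.le hy))]
  have hE2 : ∀ y ∈ M', B' (cN.f (cm x₀ y)) (c.f y) = cN.f (cm x₀ y) := fun y hy => by
    have h1 := hMP x₀ hx₀ y (c'.le hy)
    have h2 : cm y x₀ ∈ N := by rw [cm_symm]; exact N.inv_mem h1
    rw [← cN.f_inv h1, ← cm_symm]
    exact (hB' _ h2 y hy).trans (hsqc y (c'.le hy) x₀ (c.le hx₀) (hMsq' y hy) h2)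
  have hE3 : ∀ y ∈ P, ∀ y' ∈ P, cN.f (cm x₀ (y * y')) = cN.f (cm x₀ y) + cN.f (cm x₀ y') :=
    fun y hy y' hy' => by
      have h1 := hMP x₀ hx₀ y hy
      rw [cm_mul_right, cN.add _ (hMP x₀ hx₀ y' hy') _ (hNn _ h1 y' hy'), conj_eq_mul_cm,
        cN.add _ h1 _ (hZN (h1.2 y' hy')), cN.f_of_mem (h1.2 y' hy'), add_zero, add_comm]
  obtain ⟨y, hy, ey⟩ := c₁'.surj (c.f g₀)
  have hy0 : cN.f (cm x₀ y) ≠ 0 := fun e => by
    obtain ⟨m, hm, rfl⟩ := (c.f_eq_iff (c'.le hy) hg₀).1 ey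
    refine hg₀' ((cN.ker _ (hMP x₀ hx₀ _ hg₀)).1 ?_)
    rw [hE3 y (c'.le hy) m (c.le hm), e, cN.f_of_mem (cm_mem_of_sq hMsq hx₀ hm), add_zero]
  have hfy : c.f y ≠ 0 := fun e => hy0 (by rw [← hE2 y hy, e, map_zero])
  obtain ⟨y', hy', ey'⟩ := c₁'.surj (t₀ * c.f y)
  change c.f y' = _ at ey'
  by_cases hy'0 : cN.f (cm x₀ y') = 0
  · have h1 := hE2 _ (M'.mul_mem hy hy')
    rw [hE3 y (c'.le hy) y' (c'.le hy'), hy'0, add_zero, c.add y (c'.le hy) y' (c'.le hy'), map_add,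
      hE2 y hy, add_eq_left] at h1
    have := hB2 _ (c.f y) _ hy0 (by rw [hE2 y hy]; exact hy0) h1
    rw [ey'] at this
    exact mul_ne_zero ht₀ hfy this
  · have h1 := hB1 _ _ _ hy0 hy'0 (hE1 y hy) (hE1 y' hy')
    have := hB2 _ (c.f y) (c.f y + c.f y') hy0 (by rw [hE2 y hy]; exact hy0) (by
      rw [map_add, hE2 y hy, h1, hE2 y' hy', CharTwo.add_self_eq_zero])
    rw [ey', CharTwo.add_eq_zero] at this
    exact ht₁ (mul_right_cancel₀ hfy (this.symm.trans (one_mul _).symm))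

/-- Higman: all squares of a Suzuki `2`-group lie in `Z`. -/
theorem HS.sq_mem (h : HS ξ P Z) (hF : Nat.card F = Nat.card Z)
    (hP : ¬ ∀ u ∈ P, ∀ v ∈ P, u * v = v * u) : ∀ u ∈ P, u * u ∈ Z := by
  induction hn : Nat.card P using Nat.strong_induction_on generalizing P with
  | _ n ih => exact h.step hF hP fun M hM hM' hM'' => ih _ (hn ▸ hM) hM' hM'' rfl

end Cfsg.Lib.Shaw
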